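import Groth.Agent.Lib.ResProp22.Ample
import Groth.Agent.Lib.RLpsi8.CounitEpi
import Groth.Agent.Lib.RelVanish.Basic
import Groth.Agent.Lib.FTIdeals9.Basic
import Groth.Agent.Lib.LocProj.Pullback
import Groth.Prelude.Def_LCI2

/-! # The resolution property along morphisms with a relatively ample module -/

set_option autoImplicit false
set_option linter.style.haveILetI false
set_option backward.isDefEq.respectTransparency false
set_option maxHeartbeats 1000000
universe u

open CategoryTheory CategoryTheory.Limits AlgebraicGeometry TopologicalSpace Opposite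
open GrothLib.InvExt (mres)
open GrothLib.QCoh GrothLib.QCoh.SubData

noncomputable section

namespace GrothLib.ResProp22

variable {X Y : Scheme.{u}}

/-- Finitely generated sections on every affine open. -/
def FinSec (M : X.Modules) : Prop :=
  ∀ p : X, ∃ O : X.Opens, p ∈ O ∧ ∀ W : X.Opens, IsAffineOpen W → W ≤ O → Module.Finite Γ(X, W) Γ(M, W)

theorem finite_restrict_sections {U : Scheme.{u}} (j : U ⟶ X) [IsOpenImmersion j] (M : X.Modules) (W : U.Opens)
    [Module.Finite Γ(X, j ''ᵁ W) Γ(M, j ''ᵁ W)] : Module.Finite Γ(U, W) Γ(M.restrict j, W) := by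
  let r : Γ(U, W) ≃+* Γ(X, j ''ᵁ W) := (j.appIso W).symm.commRingCatIsoToRingEquiv
  letI := RingHomInvPair.of_ringEquiv r
  letI := RingHomInvPair.symm (↑r : Γ(U, W) →+* Γ(X, j ''ᵁ W)) ↑r.symm
  let l : Γ(M.restrict j, W) ≃ₛₗ[(↑r : Γ(U, W) →+* Γ(X, j ''ᵁ W))] Γ(M, j ''ᵁ W) :=
    { toFun := fun s => (M.restrictAppIso j W).hom s
      invFun := fun s => (M.restrictAppIso j W).inv s
      map_add' := fun _ _ => rfl
      map_smul' := fun _ _ => rfl
      left_inv := fun _ => rfl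
      right_inv := fun _ => rfl }
  obtain ⟨S, hS⟩ := Module.finite_def.1 (inferInstance : Module.Finite Γ(X, j ''ᵁ W) Γ(M, j ''ᵁ W))
  classical
  refine ⟨⟨S.image l.symm, eq_top_iff.2 fun x _ => ?_⟩⟩
  have hx : l x ∈ Submodule.span Γ(X, j ''ᵁ W) (S : Set Γ(M, j ''ᵁ W)) := hS ▸ Submodule.mem_top
  have h2 := Submodule.mem_map_of_mem (f := (l.symm : Γ(M, j ''ᵁ W) →ₛₗ[(↑r.symm : Γ(X, j ''ᵁ W) →+* Γ(U, W))] Γ(M.restrict j, W))) hx
  rw [Submodule.map_span] at h2
  rw [Finset.coe_image]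
  simpa using h2

theorem finSec_restrict {U : Scheme.{u}} (j : U ⟶ X) [IsOpenImmersion j] {M : X.Modules} (hM : FinSec M) :
    FinSec (M.restrict j) := fun p => by
  obtain ⟨O, hp, hO⟩ := hM (j p)
  refine ⟨j ⁻¹ᵁ O, hp, fun W hW hWO => ?_⟩
  haveI := hO (j ''ᵁ W) (hW.image_of_isOpenImmersion j)
    (((Scheme.Hom.image_mono j hWO).trans (j.image_preimage_eq_opensRange_inf O).le).trans inf_le_right)
  exact finite_restrict_sections j M W

theorem finSec_of_isFT {M : X.Modules} [M.IsQuasicoherent] (h : CohB1.IsFT M) : FinSec M := fun _ =>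
  ⟨⊤, trivial, fun _ hW _ => QCoh.moduleFinite_of_isFiniteType M h hW⟩

/-- Maps out of a module are determined on a spanning family. -/
theorem hom_ext_of_spanned {F N : X.Modules} {ι : Type*} {s : ι → Γ(F, ⊤)} (h : Ample.Spanned F s)
    (g g' : F ⟶ N) (hs : ∀ i, g.app ⊤ (s i) = g'.app ⊤ (s i)) : g = g' := by
  refine Scheme.Modules.hom_ext g g' fun O => ?_
  ext (m : Γ(F, O))
  choose W hW hxW hspan using fun x : O => h O m x.1 x.2
  refine Ample.meq_of_cover N W hW (fun x hx => Opens.mem_iSup.mpr ⟨⟨x, hx⟩, hxW ⟨x, hx⟩⟩) fun x => ?_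
  rw [← Ample.app_mres, ← Ample.app_mres]
  have hy := hspan x
  generalize mres F (hW x) m = y at hy ⊢
  induction hy using Submodule.span_induction with
  | mem z hz =>
    obtain ⟨i, rfl⟩ := hz
    rw [Ample.app_mres, Ample.app_mres, hs]
  | zero => rw [map_zero, map_zero]
  | add z w _ _ hz hw => rw [map_add, map_add, hz, hw]
  | smul r z _ hz => rw [Ample.app_smul, Ample.app_smul, hz]

/-- A module generated over preimages is a quotient of the pullback of a vector bundle. -/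
theorem exists_epi_pullback [CompactSpace Y] [QuasiSeparatedSpace Y] (hY : PerfAux.HasResolutionProperty Y)
    (f : X ⟶ Y) [QuasiCompact f] [QuasiSeparated f] (N : X.Modules) [N.IsQuasicoherent] (hN : FinSec N)
    {I : Type u} [Finite I] (V : I → Y.Opens) (hV : ∀ i, IsAffineOpen (V i)) (hcov : (⊤ : Y.Opens) ≤ ⨆ i, V i)
    (h : ∀ i, Curv2.IsGloballyGenerated (N.restrict (f ⁻¹ᵁ V i).ι)) :
    ∃ (E : Y.Modules) (π : (Scheme.Modules.pullback f).obj E ⟶ N), FlatMod.IsFinLocFree E ∧ Epi π := by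
  classical
  have hgen : ∀ i, ∃ (k : ℕ) (s : Fin k → Γ(N.restrict (f ⁻¹ᵁ V i).ι, ⊤)), Ample.Spanned _ s := fun i => by
    haveI : CompactSpace (f ⁻¹ᵁ V i : X.Opens) := isCompact_iff_compactSpace.1
      (QuasiCompact.isCompact_preimage _ (V i).isOpen (hV i).isCompact)
    haveI : (N.restrict (f ⁻¹ᵁ V i).ι).IsQuasicoherent := by
      haveI := FittSheaf.isQuasicoherent_pullback (f ⁻¹ᵁ V i).ι N
      exact QCoh.isQuasicoherent_of_iso ((Scheme.Modules.restrictFunctorIsoPullback _).app N).symm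
    obtain ⟨ι, s, hs⟩ := CurveMult.spanned_of_isGloballyGenerated (h i)
    obtain ⟨k, t, ht⟩ := Ample.exists_finite_spanned _ (finSec_restrict _ hN) s hs
    exact ⟨k, _, ht⟩
  choose k s hs using hgen
  let G := (Scheme.Modules.pushforward f).obj N
  haveI : G.IsQuasicoherent := QCoh.isQuasicoherent_pushforward f N
  let σ : ∀ p : (Σ i, Fin (k i)), Γ(N, f ⁻¹ᵁ V p.1) := fun p =>
    mres N (Scheme.Opens.ι_image_top (f ⁻¹ᵁ V p.1)).ge (s p.1 p.2)
  obtain ⟨Q, hQ, hσ⟩ := FTIdeals9.exists_locGen_family (F := G) (κ := ULift.{u} (Σ i, Fin (k i)))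
    (fun p => V p.down.1) (fun p => (hV _).isCompact) (fun p => σ p.down)
  haveI := hQ.isQuasicoherent
  obtain ⟨E, q, hE, hq⟩ := hY Q.obj inferInstance hQ.isFiniteType
  let adj := Scheme.Modules.pullbackPushforwardAdjunction f
  let ψ : (Scheme.Modules.pullback f).obj Q.obj ⟶ N := (adj.homEquiv _ _).symm Q.ι
  haveI : Epi q := hq
  haveI : Epi ψ := by
    refine ⟨fun {T} a b hab => ?_⟩
    have h' : Q.ι ≫ (Scheme.Modules.pushforward f).map a = Q.ι ≫ (Scheme.Modules.pushforward f).map b := by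
      have h1 := congrArg (adj.homEquiv _ _) hab
      rw [Adjunction.homEquiv_naturality_right, Adjunction.homEquiv_naturality_right] at h1
      simpa only [ψ, Equiv.apply_symm_apply] using h1
    refine Scheme.Modules.hom_ext _ _ fun W => ?_
    ext (t : Γ(N, W))
    refine Ample.meq_of_cover _ (fun i : I => W ⊓ f ⁻¹ᵁ V i) (fun _ => inf_le_left)
      (fun x hx => by
        obtain ⟨i, hi⟩ := Opens.mem_iSup.1 (hcov (show f x ∈ (⊤ : Y.Opens) from trivial))
        exact Opens.mem_iSup.2 ⟨i, hx, hi⟩) fun i => ?_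
    rw [← Ample.app_mres, ← Ample.app_mres]
    have e : (Scheme.Modules.restrictFunctor (f ⁻¹ᵁ V i).ι).map a =
        (Scheme.Modules.restrictFunctor (f ⁻¹ᵁ V i).ι).map b :=
      hom_ext_of_spanned (hs i) _ _ fun j => by
        have h2 : a.app (f ⁻¹ᵁ V i) (σ ⟨i, j⟩) = b.app (f ⁻¹ᵁ V i) (σ ⟨i, j⟩) :=
          congrArg (fun k : Q.obj ⟶ (Scheme.Modules.pushforward f).obj T => k.app (V i)
            (Q.lift _ (hσ ⟨⟨i, j⟩⟩))) h'
        have key : ∀ (W' : X.Opens) (hW' : W' = f ⁻¹ᵁ V i) (u : Γ(N, W')),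
            a.app (f ⁻¹ᵁ V i) (mres N hW'.ge u) = b.app (f ⁻¹ᵁ V i) (mres N hW'.ge u) → a.app W' u = b.app W' u := by
          rintro W' rfl u hu
          rwa [InvExt.mres_self] at hu
        exact key _ (Scheme.Opens.ι_image_top _) (s i j) h2
    have key : ∀ (W' : X.Opens), (∃ W'', (f ⁻¹ᵁ V i).ι ''ᵁ W'' = W') → ∀ u : Γ(N, W'), a.app W' u = b.app W' u := by
      rintro _ ⟨W'', rfl⟩ u
      exact congrArg (fun k : (Scheme.Modules.restrictFunctor (f ⁻¹ᵁ V i).ι).obj N ⟶
        (Scheme.Modules.restrictFunctor (f ⁻¹ᵁ V i).ι).obj T => k.app W'' u) e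
    refine key _ ⟨(f ⁻¹ᵁ V i).ι ⁻¹ᵁ W, ?_⟩ _
    rw [Scheme.Hom.image_preimage_eq_opensRange_inf, Scheme.Opens.opensRange_ι, inf_comm]
  haveI : PreservesColimitsOfSize.{0, 0} (Scheme.Modules.pullback f) := preservesColimitsOfSize_shrink.{0, u, 0, u} _
  haveI : Epi ((Scheme.Modules.pullback f).map q) := inferInstance
  exact ⟨E, (Scheme.Modules.pullback f).map q ≫ ψ, hE, epi_comp _ _⟩

/-- The resolution property passes up along affine morphisms. -/
theorem hasResolutionProperty_of_isAffineHom [CompactSpace Y] [QuasiSeparatedSpace Y]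
    (hY : PerfAux.HasResolutionProperty Y) (f : X ⟶ Y) [IsAffineHom f] : PerfAux.HasResolutionProperty X := by
  intro M hM hft
  haveI : M.IsQuasicoherent := hM
  obtain ⟨I, _, V, hV, -, hcov⟩ := exists_finite_affine_cover (U := (⊤ : Y.Opens)) (by simpa using isCompact_univ)
  obtain ⟨E, π, hE, hπ⟩ := exists_epi_pullback hY f M (finSec_of_isFT hft) V hV hcov fun i => by
    haveI : IsAffine (f ⁻¹ᵁ V i : X.Opens) := (hV i).preimage f
    haveI : (M.restrict (f ⁻¹ᵁ V i).ι).IsQuasicoherent := by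
      haveI := FittSheaf.isQuasicoherent_pullback (f ⁻¹ᵁ V i).ι M
      exact QCoh.isQuasicoherent_of_iso ((Scheme.Modules.restrictFunctorIsoPullback _).app M).symm
    exact Ample.isGloballyGenerated_of_isQuasiAffine _
  exact ⟨_, π, OX.isFinLocFree_pullback f hE, hπ⟩

theorem eventually_ggen_restrict {L : X.Modules} (hL : PicF.IsInvertible L) (U : X.Opens)
    (ha : CohB1.IsAmple (L.restrict U.ι)) {M : X.Modules} [M.IsQuasicoherent] (hM : FinSec M) :
    ∃ n₀ : ℕ, ∀ n, n₀ ≤ n →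
      Curv2.IsGloballyGenerated ((CohB1.tensorMod M (CohB1.tensorPow L n)).restrict U.ι) := by
  haveI : CompactSpace (U : Scheme.{u}) := ha.2.1
  haveI : (M.restrict U.ι).IsQuasicoherent := by
    haveI := FittSheaf.isQuasicoherent_pullback U.ι M
    exact QCoh.isQuasicoherent_of_iso ((Scheme.Modules.restrictFunctorIsoPullback _).app M).symm
  obtain ⟨c, ⟨e⟩⟩ := Ample.exists_cocycle ha.1
  obtain ⟨n₀, h⟩ := c.eventually_isGloballyGenerated (M.restrict U.ι) ((c.isAmple_iff e).mp ha).2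
    (finSec_restrict U.ι hM)
  refine ⟨n₀, fun n hn => ?_⟩
  obtain ⟨φ⟩ := RelVanish.nonempty_restrict_tensorPow U.ι M hL n
  obtain ⟨d⟩ := c.nonempty_tensorPow_iso e n
  obtain ⟨t⟩ := c.nonempty_tensor_modTwist (M.restrict U.ι) n
  exact Ample.isGloballyGenerated_of_iso
    (φ ≪≫ Ample.LineData.tensorModMapIso (Iso.refl _) d ≪≫ t).symm (h n hn)

/-- The resolution property passes up along morphisms with a relatively ample module. -/
theorem hasResolutionProperty_of_isRelAmple [CompactSpace Y] [QuasiSeparatedSpace Y]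
    (hY : PerfAux.HasResolutionProperty Y) (f : X ⟶ Y) {L : X.Modules} (hL : RelAmple.IsRelAmple f L) :
    PerfAux.HasResolutionProperty X := by
  intro M hM hft
  haveI : M.IsQuasicoherent := hM
  haveI : QuasiCompact f := hL.1
  haveI : QuasiSeparated f := RLpsi8.quasiSeparated_of_isRelAmple hL
  have hinv : PicF.IsInvertible L := Ample.isInvertible_of_isRelAmple hL
  obtain ⟨I, _, V, hV, -, hcov⟩ := exists_finite_affine_cover (U := (⊤ : Y.Opens)) (by simpa using isCompact_univ)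
  have hfin := finSec_of_isFT hft
  choose n₀ hn₀ using fun i => eventually_ggen_restrict hinv (f ⁻¹ᵁ V i) (hL.2 ⟨V i, hV i⟩) hfin
  let n := Finset.univ.sup n₀
  obtain ⟨c, ⟨e⟩⟩ := Ample.exists_cocycle hinv
  haveI := c.isQuasicoherent_modTwist M n
  obtain ⟨a⟩ := c.nonempty_tensor_modTwist M n
  obtain ⟨d⟩ := c.nonempty_tensorPow_iso e n
  let θ : CohB1.tensorMod M (CohB1.tensorPow L n) ≅ c.modTwist M n :=
    Ample.LineData.tensorModMapIso (Iso.refl _) d ≪≫ a
  obtain ⟨E, π, hE, hπ⟩ := exists_epi_pullback hY f (c.modTwist M n) (fun p => c.finite_modTwist M n hfin p) V hV hcov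
    fun i => Ample.isGloballyGenerated_of_iso ((Scheme.Modules.restrictFunctor (f ⁻¹ᵁ V i).ι).mapIso θ)
      (hn₀ i n (Finset.le_sup (Finset.mem_univ i)))
  obtain ⟨K', hK', ⟨b⟩⟩ := exists_inverse (c.isInvertible_twist n)
  let G := Euler.tF K'
  haveI : PreservesColimitsOfSize.{0, 0} G := preservesColimitsOfSize_shrink.{0, u, 0, u} _
  let back : G.obj (c.modTwist M n) ≅ M :=
    G.mapIso a.symm ≪≫ OX.tensorAssoc M (c.twist n) K' ≪≫ ((DCoh.tensorBi (X := X)).obj M).mapIso b ≪≫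
      Euler.tFUnitIso M
  haveI : Epi π := hπ
  haveI : Epi (G.map π) := inferInstance
  exact ⟨_, G.map π ≫ back.hom,
    OX.isFinLocFree_tensor (OX.isFinLocFree_pullback f hE) (Euler.isFinLocFree_of_isInvertible hK'), epi_comp _ _⟩

end GrothLib.ResProp22
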