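import Groth.Agent.Lib.ModelK.AmpleElt
import Groth.Agent.Lib.OX.TensorAssoc
import Groth.Agent.Lib.Ample.ModTwistQcoh
import Groth.Agent.Lib.VA.Powers
import Groth.Agent.Lib.QCoh.FT
import Groth.Prelude.Def_PerfAux

/-! # Ample modules give the resolution property -/

set_option autoImplicit false
set_option linter.style.haveILetI false
set_option maxHeartbeats 800000
universe u

open CategoryTheory CategoryTheory.Limits AlgebraicGeometry

namespace GrothLib.ResProp22

variable {X : Scheme.{u}}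

theorem exists_inverse {K : X.Modules} (hK : PicF.IsInvertible K) :
    ∃ K' : X.Modules, PicF.IsInvertible K' ∧ Nonempty (CohB1.tensorMod K K' ≅ Coh.structureModule X) := by
  obtain ⟨K', hK', e⟩ := VA.exists_inverse hK
  exact ⟨K', hK', (Cube.clsMod_eq_one_iff (Ample.isInvertible_tensorMod hK hK')).1
    (by rw [Cube.clsMod_tensorMod hK hK', e, mul_inv_cancel])⟩

/-- Every finite type quasi-coherent module is a quotient of `O^N ⊗ L'` on a scheme with an ample module. -/
theorem hasResolutionProperty_of_isAmple {L : X.Modules} (hL : CohB1.IsAmple L) :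
    PerfAux.HasResolutionProperty X := by
  intro M hM hft
  haveI : CompactSpace X := hL.2.1
  haveI : M.IsQuasicoherent := hM
  obtain ⟨c, ⟨e⟩⟩ := Ample.exists_cocycle hL.1
  have hfin : ∀ p : X, ∃ O : X.Opens, p ∈ O ∧ ∀ W : X.Opens, IsAffineOpen W → W ≤ O → Module.Finite Γ(X, W) Γ(M, W) :=
    fun p => ⟨⊤, trivial, fun W hW _ => QCoh.moduleFinite_of_isFiniteType M hft hW⟩
  obtain ⟨n, hn⟩ := c.eventually_isGloballyGenerated M ((c.isAmple_iff e).1 hL).2 hfin
  haveI := c.isQuasicoherent_modTwist M n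
  obtain ⟨ι, s, hs⟩ := CurveMult.spanned_of_isGloballyGenerated (hn n le_rfl)
  obtain ⟨N, t, ht⟩ := Ample.exists_finite_spanned _ (fun p => c.finite_modTwist M n hfin p) s hs
  obtain ⟨p, hp⟩ := Ample.exists_epi_free _ ht
  obtain ⟨a⟩ := c.nonempty_tensor_modTwist M n
  obtain ⟨d⟩ := c.nonempty_tensorPow_iso e n
  have hK : PicF.IsInvertible (c.twist n) := c.isInvertible_twist n
  obtain ⟨K', hK', ⟨b⟩⟩ := exists_inverse hK
  let G := Euler.tF K'
  haveI : PreservesColimitsOfSize.{0, 0} G := preservesColimitsOfSize_shrink.{0, u, 0, u} _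
  let back : G.obj (c.modTwist M n) ≅ M :=
    G.mapIso a.symm ≪≫ OX.tensorAssoc M (c.twist n) K' ≪≫ ((DCoh.tensorBi (X := X)).obj M).mapIso b ≪≫
      Euler.tFUnitIso M
  haveI : Epi p := hp
  haveI : Epi (G.map p) := inferInstance
  exact ⟨G.obj (FlatMod.freeMod X N), G.map p ≫ back.hom,
    OX.isFinLocFree_tensor (OX.isFinLocFree_freeMod X N) (Euler.isFinLocFree_of_isInvertible hK'), epi_comp _ _⟩

end GrothLib.ResProp22
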